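import Cfsg.Agent.Lib.Strong.Basic

/-!
# Conjugates inside strongly `p`-embedded subgroups
-/

namespace CfsgLib.Strong

set_option autoImplicit false
set_option linter.style.haveILetI false

open CfsgLib.Transfer

variable {G : Type*} [Group G] [Finite G] {p : ℕ} [Fact p.Prime]

theorem centralizer_le_of_normalizer {H : Subgroup G}
    (hN : ∀ Q : Subgroup G, IsPGroup p Q → Q ≤ H → Q ≠ ⊥ → Subgroup.normalizer (Q : Set G) ≤ H)
    {x : G} (hxH : x ∈ H) (hx : orderOf x = p) : Subgroup.centralizer ({x} : Set G) ≤ H :=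
  (centralizer_singleton_le_normalizer x).trans
    (hN _ (isPGroup_zpowers ⟨1, by rw [pow_one, hx]⟩) (Subgroup.zpowers_le.mpr hxH) (by
      rw [Ne, Subgroup.zpowers_eq_bot]
      intro h
      rw [h, orderOf_one] at hx
      exact (Fact.out : p.Prime).ne_one hx.symm))

/-- A Sylow subgroup through a nontrivial `p`-element of a strongly embedded subgroup lies in it. -/
theorem sylow_le_of_normalizer {H : Subgroup G}
    (hN : ∀ Q : Subgroup G, IsPGroup p Q → Q ≤ H → Q ≠ ⊥ → Subgroup.normalizer (Q : Set G) ≤ H)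
    (T : Sylow p G) {x : G} (hxT : x ∈ (T : Subgroup G)) (hxH : x ∈ H) (hx : orderOf x = p) :
    (T : Subgroup G) ≤ H :=
  sylow_le_of_mem (fun _ h1 h2 => centralizer_le_of_normalizer hN h1 h2) T hxT hxH hx

/-- An element conjugating an element of order `p` of `H` into `H` lies in `H`. -/
theorem mem_of_conj_mem {H : Subgroup G}
    (hN : ∀ Q : Subgroup G, IsPGroup p Q → Q ≤ H → Q ≠ ⊥ → Subgroup.normalizer (Q : Set G) ≤ H)
    {g x : G} (hx : orderOf x = p) (hxH : x ∈ H) (hgx : g * x * g⁻¹ ∈ H) : g ∈ H := by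
  obtain ⟨T, hT⟩ := (isPGroup_zpowers (p := p) (x := x) ⟨1, by rw [pow_one, hx]⟩).exists_le_sylow
  have hxT : x ∈ (T : Subgroup G) := hT (Subgroup.mem_zpowers x)
  have hTH : (T : Subgroup G) ≤ H := sylow_le_of_normalizer hN T hxT hxH hx
  have hgT : ((g • T : Sylow p G) : Subgroup G) =
      (T : Subgroup G).map (MulAut.conj g).toMonoidHom := smul_sylow_coe g T
  have hgTH : ((g • T : Sylow p G) : Subgroup G) ≤ H :=
    sylow_le_of_normalizer hN (g • T) (by rw [hgT]; exact Subgroup.mem_map_of_mem _ hxT) hgx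
      (by rw [CfsgLib.Transfer.orderOf_conj, hx])
  obtain ⟨h, hh, hle⟩ := exists_conj_le_of_not_dvd_relIndex hTH T.2
    (fun hd => T.not_dvd_index (hd.trans (Subgroup.relIndex_dvd_index_of_le hTH))) hgTH (g • T).2
  rw [hgT, map_conj_mul] at hle
  have heq : (T : Subgroup G).map (MulAut.conj (h * g)).toMonoidHom = (T : Subgroup G) :=
    Subgroup.eq_of_le_of_card_ge hle
      (by rw [Subgroup.card_map_of_injective (MulAut.conj _).injective])
  have hne : (T : Subgroup G) ≠ ⊥ := fun e => by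
    rw [e, Subgroup.mem_bot] at hxT
    rw [hxT, orderOf_one] at hx
    exact (Fact.out : p.Prime).ne_one hx.symm
  have h2 := hN _ T.2 hTH hne (map_conj_eq_self_iff.mp heq)
  simpa [mul_assoc] using H.mul_mem (H.inv_mem hh) h2

/-- The normalizer condition gives strong embedding. -/
theorem isStronglyPEmbedded_of_normalizer {H : Subgroup G} (hH : H ≠ ⊤) (hpH : p ∣ Nat.card H)
    (hN : ∀ Q : Subgroup G, IsPGroup p Q → Q ≤ H → Q ≠ ⊥ → Subgroup.normalizer (Q : Set G) ≤ H) :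
    Cfsg.IsStronglyPEmbedded p H := by
  obtain ⟨x, hx⟩ := exists_prime_orderOf_dvd_card' (G := H) p hpH
  obtain ⟨T, hT⟩ := (isPGroup_zpowers (p := p) (x := (x : G))
    ⟨1, by rw [pow_one, Subgroup.orderOf_coe, hx]⟩).exists_le_sylow
  have hTH := sylow_le_of_normalizer hN T (hT (Subgroup.mem_zpowers _)) x.2
    (by rw [Subgroup.orderOf_coe, hx])
  refine ⟨hpH.trans H.card_subgroup_dvd_card, hH, T, ?_⟩
  rw [CfsgLib.Fusion.kGeneratedCore_one_le_iff T.2]
  exact fun U hU hne => hN U (T.2.to_le hU) (hU.trans hTH) hne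

/-- The intersection condition is equivalent to the normalizer condition. -/
theorem forall_not_dvd_iff {H : Subgroup G} :
    (∀ g : G, g ∉ H → ¬ p ∣ Nat.card ↥(H ⊓ H.map (MulAut.conj g).toMonoidHom)) ↔
      ∀ Q : Subgroup G, IsPGroup p Q → Q ≤ H → Q ≠ ⊥ → Subgroup.normalizer (Q : Set G) ≤ H := by
  refine ⟨fun h Q hQ hQH hne g hg => ?_, fun hN g hg hd => ?_⟩
  · by_contra hgH
    haveI : Nontrivial Q := (Subgroup.nontrivial_iff_ne_bot Q).2 hne
    obtain ⟨k, hk, hk'⟩ := hQ.nontrivial_iff_card.1 inferInstance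
    refine h g hgH ((hk' ▸ dvd_pow_self p hk.ne' : p ∣ Nat.card Q).trans
      (Subgroup.card_dvd_of_le (le_inf hQH ?_)))
    conv_lhs => rw [← map_conj_eq_self_iff.mpr hg]
    exact Subgroup.map_mono hQH
  · obtain ⟨⟨y, hy1, hy2⟩, hy⟩ := exists_prime_orderOf_dvd_card' p hd
    rw [← Subgroup.orderOf_coe] at hy
    change orderOf y = p at hy
    obtain ⟨x, hxH, rfl⟩ := hy2
    change g * x * g⁻¹ ∈ H at hy1
    refine hg (mem_of_conj_mem hN ?_ hxH hy1)
    rw [← CfsgLib.Transfer.orderOf_conj g x]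
    exact hy

theorem isStronglyPEmbedded_iff {H : Subgroup G} :
    Cfsg.IsStronglyPEmbedded p H ↔ H ≠ ⊤ ∧ p ∣ Nat.card H ∧
      ∀ Q : Subgroup G, IsPGroup p Q → Q ≤ H → Q ≠ ⊥ → Subgroup.normalizer (Q : Set G) ≤ H := by
  refine ⟨fun h => ?_, fun h => isStronglyPEmbedded_of_normalizer h.1 h.2.1 h.2.2⟩
  obtain ⟨⟨P, hPH, hne⟩, hN⟩ := exists_sylow_le_and_normalizer_le h
  haveI : Nontrivial (P : Subgroup G) := (Subgroup.nontrivial_iff_ne_bot _).2 hne
  obtain ⟨k, hk, hk'⟩ := P.2.nontrivial_iff_card.1 inferInstance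
  exact ⟨h.2.1, (hk' ▸ dvd_pow_self p hk.ne' : p ∣ _).trans (Subgroup.card_dvd_of_le hPH), hN⟩

end CfsgLib.Strong
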