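import Cfsg.Agent.Lib.Fusion.Alperin
import Cfsg.Agent.Lib.Transfer.Sylow
import Cfsg.Agent.Lib.Transfer.Alperin

/-!
# Criteria for strongly `p`-embedded subgroups
-/

namespace CfsgLib.Strong

set_option autoImplicit false
set_option linter.style.haveILetI false

open CfsgLib.Transfer

variable {G : Type*} [Group G] [Finite G] {p : ℕ} [Fact p.Prime]

theorem exists_orderOf_eq_of_ne_bot {Q : Subgroup G} (hQ : IsPGroup p Q) (hne : Q ≠ ⊥) :
    ∃ x ∈ Q, orderOf x = p := by
  haveI : Nontrivial Q := (Subgroup.nontrivial_iff_ne_bot Q).2 hne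
  obtain ⟨k, hk, hk'⟩ := hQ.nontrivial_iff_card.1 inferInstance
  obtain ⟨x, hx⟩ := exists_prime_orderOf_dvd_card' (G := Q) p (hk' ▸ dvd_pow_self p hk.ne')
  exact ⟨x, x.2, by rwa [Subgroup.orderOf_coe]⟩

omit [Finite G] [Fact p.Prime] in
theorem centralizer_singleton_le_normalizer (x : G) :
    Subgroup.centralizer ({x} : Set G) ≤ Subgroup.normalizer (Subgroup.zpowers x : Set G) := by
  refine fun c hc => Subgroup.mem_normalizer_iff.mpr fun y => ?_
  rw [Subgroup.mem_centralizer_singleton_iff] at hc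
  constructor
  · rintro ⟨k, rfl⟩
    refine ⟨k, ?_⟩
    change x ^ k = c * x ^ k * c⁻¹
    rw [(Commute.zpow_right (show Commute c x from hc) k).eq, mul_inv_cancel_right]
  · rintro ⟨k, hk⟩
    refine ⟨k, ?_⟩
    change x ^ k = y
    change x ^ k = c * y * c⁻¹ at hk
    calc x ^ k = c⁻¹ * (c * x ^ k) := by group
      _ = c⁻¹ * (x ^ k * c) := by rw [(Commute.zpow_right (show Commute c x from hc) k).eq]
      _ = y := by rw [hk]; group

/-- If `H` contains the centralizers of its elements of order `p`, a Sylow subgroup meeting `H`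
in a nontrivial element of order `p` lies in `H`. -/
theorem sylow_le_of_mem {H : Subgroup G}
    (hC : ∀ x ∈ H, orderOf x = p → Subgroup.centralizer ({x} : Set G) ≤ H) (T : Sylow p G)
    {x : G} (hxT : x ∈ (T : Subgroup G)) (hxH : x ∈ H) (hx : orderOf x = p) :
    (T : Subgroup G) ≤ H := by
  have hne : (T : Subgroup G) ≠ ⊥ := fun h => by
    rw [h, Subgroup.mem_bot] at hxT
    rw [hxT, orderOf_one] at hx
    exact (Fact.out : p.Prime).ne_one hx.symm
  haveI : Nontrivial (T : Subgroup G) := (Subgroup.nontrivial_iff_ne_bot _).2 hne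
  haveI := T.2.center_nontrivial
  obtain ⟨y, hyZ, hy⟩ := exists_orderOf_eq_of_ne_bot (G := (T : Subgroup G)) (p := p)
    (T.2.to_subgroup (Subgroup.center (T : Subgroup G)))
    ((Subgroup.nontrivial_iff_ne_bot _).1 inferInstance)
  have hcomm : ∀ t ∈ (T : Subgroup G), t * (y : G) = (y : G) * t := fun t ht =>
    congrArg Subtype.val (Subgroup.mem_center_iff.mp hyZ ⟨t, ht⟩)
  have hyH : (y : G) ∈ H :=
    hC x hxH hx (Subgroup.mem_centralizer_singleton_iff.mpr (hcomm x hxT).symm)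
  intro t ht
  exact hC y hyH (by rwa [Subgroup.orderOf_coe])
    (Subgroup.mem_centralizer_singleton_iff.mpr (hcomm t ht))

/-- The element-wise criterion gives the normalizers of all nontrivial `p`-subgroups. -/
theorem normalizer_le {H : Subgroup G}
    (hC : ∀ x ∈ H, orderOf x = p → Subgroup.centralizer ({x} : Set G) ≤ H) (S : Sylow p G)
    (hS : (S : Subgroup G) ≤ H) (hN : Subgroup.normalizer ((S : Subgroup G) : Set G) ≤ H)
    {Q : Subgroup G} (hQ : IsPGroup p Q) (hQH : Q ≤ H) (hne : Q ≠ ⊥) :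
    Subgroup.normalizer (Q : Set G) ≤ H := by
  obtain ⟨x, hxQ, hx⟩ := exists_orderOf_eq_of_ne_bot hQ hne
  obtain ⟨T, hT⟩ := hQ.exists_le_sylow
  have conjS : ∀ R : Sylow p G, (R : Subgroup G) ≤ H →
      ∃ h ∈ H, (R : Subgroup G) = (S : Subgroup G).map (MulAut.conj h).toMonoidHom := by
    intro R hR
    obtain ⟨h, hh⟩ := MulAction.exists_smul_eq H (S.subtype hS) (R.subtype hR)
    refine ⟨h, h.2, ?_⟩
    have e := congrArg (fun P : Sylow p H => (P : Subgroup H).map H.subtype) hh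
    simp only [Sylow.coe_subtype] at e
    rw [Subgroup.map_subgroupOf_eq_of_le hR] at e
    rw [← e, Sylow.coe_subgroup_smul, Sylow.coe_subtype]
    change Subgroup.map H.subtype (Subgroup.map (MulAut.conj h).toMonoidHom _) = _
    rw [Subgroup.map_map, show H.subtype.comp (MulAut.conj h).toMonoidHom =
      ((MulAut.conj (h : G)).toMonoidHom).comp H.subtype from rfl, ← Subgroup.map_map,
      Subgroup.map_subgroupOf_eq_of_le hS]
  intro g hg
  obtain ⟨a, ha, hTa⟩ := conjS T (sylow_le_of_mem hC T (hT hxQ) (hQH hxQ) hx)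
  have hgxQ : g * x * g⁻¹ ∈ Q := (Subgroup.mem_normalizer_iff.mp hg x).mp hxQ
  have hgT : ((g • T : Sylow p G) : Subgroup G) =
      (T : Subgroup G).map (MulAut.conj g).toMonoidHom := smul_sylow_coe g T
  obtain ⟨b, hb, hTb⟩ := conjS (g • T) (sylow_le_of_mem hC (g • T)
    (by rw [hgT]; exact Subgroup.mem_map_of_mem _ (hT hxQ)) (hQH hgxQ)
    (by rw [CfsgLib.Transfer.orderOf_conj, hx]))
  rw [hgT, hTa, map_conj_mul] at hTb
  have h2 := congrArg (Subgroup.map (MulAut.conj b⁻¹).toMonoidHom) hTb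
  rw [map_conj_mul, map_conj_mul, inv_mul_cancel, map_conj_one, map_conj_eq_self_iff] at h2
  have h3 := H.mul_mem (H.mul_mem hb (hN h2)) (H.inv_mem ha)
  simpa [mul_assoc] using h3

/-- Conversely, the defining condition gives the normalizers of all nontrivial `p`-subgroups. -/
theorem exists_sylow_le_and_normalizer_le {H : Subgroup G} (h : Cfsg.IsStronglyPEmbedded p H) :
    (∃ P : Sylow p G, (P : Subgroup G) ≤ H ∧ (P : Subgroup G) ≠ ⊥) ∧
      ∀ Q : Subgroup G, IsPGroup p Q → Q ≤ H → Q ≠ ⊥ → Subgroup.normalizer (Q : Set G) ≤ H := by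
  obtain ⟨hp, -, P, hP⟩ := h
  rw [CfsgLib.Fusion.kGeneratedCore_one_le_iff P.2] at hP
  have hPne : (P : Subgroup G) ≠ ⊥ := P.ne_bot_of_dvd_card hp
  have hPH : (P : Subgroup G) ≤ H := Subgroup.le_normalizer.trans (hP _ le_rfl hPne)
  refine ⟨⟨P, hPH, hPne⟩, fun Q hQ hQH hne g hg => ?_⟩
  have hQ' : IsPGroup p (Q.subgroupOf H) := hQ.comap_of_injective _ H.subtype_injective
  obtain ⟨k, hk⟩ := exists_map_conj_le_sylow hQ' (P.subtype hPH)
  have hle : Q.map (MulAut.conj (k : G)).toMonoidHom ≤ (P : Subgroup G) := by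
    rintro _ ⟨q, hq, rfl⟩
    exact hk ⟨⟨q, hQH hq⟩, hq, rfl⟩
  have h1 := hP _ hle (fun h => hne
    ((Subgroup.map_eq_bot_iff_of_injective Q (MulAut.conj (k : G)).injective).1 h))
  have h3 : (k : G) * g * (k : G)⁻¹ ∈ H := by
    refine h1 ?_
    rw [← CfsgLib.Transfer.map_conj_eq_self_iff, map_conj_mul,
      show (k : G) * g * (k : G)⁻¹ * k = (k : G) * g by group, ← map_conj_mul,
      map_conj_eq_self_iff.mpr hg]
  simpa [mul_assoc] using H.mul_mem (H.mul_mem (H.inv_mem k.2) h3) k.2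

end CfsgLib.Strong
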